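import Mathlib
import Groth.Agent.CAlgNagata.Reduced
import Groth.Agent.FlatEquidim.Scheme
import Groth.Agent.FlatMorLib.MaxPoints
import Groth.Agent.FlatDim.Basic

/-!
# Finiteness of normalization over a Nagata base
-/

set_option autoImplicit false
set_option backward.isDefEq.respectTransparency.types false

universe u

open AlgebraicGeometry CategoryTheory

namespace Groth.Agent.NagataNorm

/-- The integral closure of a Nagata ring in a field essentially of finite type is finite. -/
theorem finite_integralClosure_field {R : Type u} [CommRing R] (hN : CAlg.IsNagata R) (F : Type u)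
    [Field F] [Algebra R F] [Algebra.EssFiniteType R F] : Module.Finite R (integralClosure R F) := by
  haveI := hN.1
  let p := RingHom.ker (algebraMap R F)
  haveI : p.IsPrime := RingHom.ker_isPrime _
  letI : Algebra (R ⧸ p) F := (Ideal.Quotient.lift p (algebraMap R F) fun a ha => ha).toAlgebra
  haveI : IsScalarTower R (R ⧸ p) F := IsScalarTower.of_algebraMap_eq fun r => rfl
  have hinj : Function.Injective (algebraMap (R ⧸ p) F) := (injective_iff_map_eq_zero _).2 fun a ha => by
    obtain ⟨r, rfl⟩ := Ideal.Quotient.mk_surjective a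
    exact Ideal.Quotient.eq_zero_iff_mem.2 (RingHom.mem_ker.2 ha)
  haveI : FaithfulSMul (R ⧸ p) F := (faithfulSMul_iff_algebraMap_injective _ _).2 hinj
  letI : Algebra (FractionRing (R ⧸ p)) F := FractionRing.liftAlgebra (R ⧸ p) F
  haveI : Algebra.EssFiniteType (R ⧸ p) F := Algebra.EssFiniteType.of_comp R (R ⧸ p) F
  haveI : Algebra.EssFiniteType (FractionRing (R ⧸ p)) F :=
    Algebra.EssFiniteType.of_comp (R ⧸ p) (FractionRing (R ⧸ p)) F
  let L := algebraicClosure (FractionRing (R ⧸ p)) F
  haveI : FiniteDimensional (FractionRing (R ⧸ p)) L :=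
    S6333.result (IntermediateField.fg_top_iff.2 inferInstance)
  haveI : Module.Finite (R ⧸ p) (integralClosure (R ⧸ p) L) :=
    N2Lib.finite_integralClosure_of_isN2 (hN.2 p) (FractionRing (R ⧸ p)) L
  have hmem : ∀ z : integralClosure (R ⧸ p) F, z.1 ∈ L := fun z =>
    mem_algebraicClosure_iff.2 (z.2 : IsIntegral (R ⧸ p) z.1).tower_top.isAlgebraic
  let φ : integralClosure (R ⧸ p) F →ₗ[R ⧸ p] integralClosure (R ⧸ p) L :=
    { toFun := fun z => ⟨⟨z.1, hmem z⟩,
        (isIntegral_algHom_iff ((L.val).restrictScalars (R ⧸ p)) L.val.injective).1 z.2⟩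
      map_add' := fun _ _ => rfl
      map_smul' := fun _ _ => rfl }
  haveI : Module.Finite (R ⧸ p) (integralClosure (R ⧸ p) F) :=
    Module.Finite.of_injective φ fun a b h =>
      Subtype.ext (congrArg (fun z : integralClosure (R ⧸ p) L => (z.1 : F)) h)
  haveI : Module.Finite R (integralClosure (R ⧸ p) F) := Module.Finite.trans (R ⧸ p) _
  let ψ : integralClosure R F →ₗ[R] integralClosure (R ⧸ p) F :=
    { toFun := fun z => ⟨z.1, IsIntegral.tower_top z.2⟩, map_add' := fun _ _ => rfl,
      map_smul' := fun _ _ => rfl }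
  exact Module.Finite.of_injective ψ fun a b h =>
    Subtype.ext (congrArg (fun z : integralClosure (R ⧸ p) F => z.1) h)

/-- finiteness of relative normalization -/
theorem isFinite_fromNormalization {X S : Scheme.{u}} (f : X ⟶ S) [QuasiCompact f] [QuasiSeparated f] [IsReduced X]
    (hS : ∀ U : S.affineOpens, CAlg.IsNagata Γ(S, U))
    (hfin : ∀ W : X.Opens, IsCompact (W : Set X) → {x : X | x ∈ W ∧ ∀ z, z ⤳ x → z = x}.Finite)
    (hres : ∀ x : X, (∀ z, z ⤳ x → z = x) → (f.residueFieldMap x).hom.EssFiniteType) :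
    IsFinite f.fromNormalization := by
  refine { finite_app := fun U hU => ?_ }
  letI := (f.app U).hom.toAlgebra
  have hA : CAlg.IsNagata Γ(S, U) := hS ⟨U, hU⟩
  haveI := hA.1
  let M := {x : X | x ∈ f ⁻¹ᵁ U ∧ ∀ z, z ⤳ x → z = x}
  haveI : Finite M := (hfin _ (f.isCompact_preimage hU.isCompact)).to_subtype
  let ev : ∀ x : M, Γ(X, f ⁻¹ᵁ U) →+* X.residueField x.1 := fun x =>
    (X.presheaf.germ (f ⁻¹ᵁ U) x.1 x.2.1 ≫ X.residue x.1).hom
  letI : ∀ x : M, Algebra Γ(S, U) (X.residueField x.1) := fun x => ((ev x).comp (f.app U).hom).toAlgebra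
  haveI : ∀ x : M, Algebra.EssFiniteType Γ(S, U) (X.residueField x.1) := fun x => by
    have hxU : f x.1 ∈ U := x.2.1
    let g := (S.presheaf.germ U (f x.1) hxU ≫ S.residue (f x.1)).hom
    have h2 : (ev x).comp (f.app U).hom = (f.residueFieldMap x.1).hom.comp g := RingHom.ext fun r => by
      rw [Scheme.Hom.app_eq_appLE]
      exact FlatEquidim.evaluation_comp f le_rfl x.2.1 r
    have h1 : g.EssFiniteType := by
      letI := TopCat.Presheaf.algebra_section_stalk S.presheaf (⟨f x.1, hxU⟩ : U)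
      haveI := hU.isLocalization_stalk ⟨f x.1, hxU⟩
      have h3 : (S.presheaf.germ U (f x.1) hxU).hom.EssFiniteType := by
        show RingHom.EssFiniteType (algebraMap Γ(S, U) (S.presheaf.stalk (f x.1)))
        exact RingHom.essFiniteType_algebraMap.2
          (Algebra.EssFiniteType.of_isLocalization _ (hU.primeIdealOf ⟨f x.1, hxU⟩).asIdeal.primeCompl)
      exact RingHom.EssFiniteType.comp h3
        (RingHom.FiniteType.of_surjective _ (Ideal.Quotient.mk_surjective)).essFiniteType
    have h4 := h1.comp (hres x.1 x.2.2)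
    rw [← h2] at h4
    exact RingHom.essFiniteType_algebraMap.1 h4
  haveI : ∀ x : M, Module.Finite Γ(S, U) (integralClosure Γ(S, U) (X.residueField x.1)) :=
    fun x => finite_integralClosure_field hA _
  let evA : ∀ x : M, Γ(X, f ⁻¹ᵁ U) →ₐ[Γ(S, U)] X.residueField x.1 := fun x =>
    { ev x with commutes' := fun _ => rfl }
  let g : integralClosure Γ(S, U) Γ(X, f ⁻¹ᵁ U) →ₗ[Γ(S, U)] ∀ x : M, integralClosure Γ(S, U) (X.residueField x.1) :=
    LinearMap.pi fun x =>
      { toFun := fun a => ⟨evA x a.1, (a.2 : IsIntegral _ _).map (evA x)⟩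
        map_add' := fun a b => Subtype.ext (map_add (evA x) a.1 b.1)
        map_smul' := fun c a => Subtype.ext (map_smul (evA x) c a.1) }
  haveI : Module.Finite Γ(S, U) (integralClosure Γ(S, U) Γ(X, f ⁻¹ᵁ U)) := by
    refine Module.Finite.of_injective g ((injective_iff_map_eq_zero g).2 fun a ha => Subtype.ext ?_)
    refine (basicOpen_eq_bot_iff a.1).1 (TopologicalSpace.Opens.ext (Set.eq_empty_iff_forall_notMem.2 fun z hz => ?_))
    obtain ⟨ξ, hξz, hξ⟩ := FlatMorLib.exists_maximal_generization z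
    have hξD : ξ ∈ X.basicOpen a.1 := hξz.mem_open (X.basicOpen a.1).2 hz
    have hξW : ξ ∈ f ⁻¹ᵁ U := X.basicOpen_le a.1 hξD
    have h0 : ev ⟨ξ, hξW, hξ⟩ a.1 = 0 := congrArg Subtype.val (congrFun ha ⟨ξ, hξW, hξ⟩)
    exact (((X.mem_basicOpen a.1 ξ hξW).1 hξD).map (X.residue ξ).hom).ne_zero h0
  rw [f.fromNormalization_app hU]
  exact RingHom.Finite.comp (RingHom.Finite.of_surjective _
    ((ConcreteCategory.bijective_of_isIso (f.normalizationObjIso hU).inv).surjective))
    (RingHom.finite_algebraMap.mpr inferInstance)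

theorem finite_max_of_isLocallyNoetherian {X : Scheme.{u}} [IsLocallyNoetherian X] (W : X.Opens)
    (hW : IsCompact (W : Set X)) : {x : X | x ∈ W ∧ ∀ z, z ⤳ x → z = x}.Finite := by
  haveI : CompactSpace (W : Scheme.{u}) := isCompact_iff_compactSpace.1 hW
  haveI : IsNoetherian (W : Scheme.{u}) := ⟨⟩
  haveI := (TopologicalSpace.NoetherianSpace.finite_irreducibleComponents (α := (W : Scheme.{u}))).to_subtype
  have hmax : ∀ x : {x : X | x ∈ W ∧ ∀ z, z ⤳ x → z = x}, ∀ z : (W : Scheme.{u}),
      z ⤳ (⟨x.1, x.2.1⟩ : (W : Scheme.{u})) → z = ⟨x.1, x.2.1⟩ := fun x z hz =>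
    W.ι.isEmbedding.injective (x.2.2 _ (hz.map W.ι.continuous))
  refine Set.finite_coe_iff.1 (Finite.of_injective (β := ↥(irreducibleComponents (W : Scheme.{u})))
    (fun x => ⟨closure {⟨x.1, x.2.1⟩}, FlatDim.closure_mem_irreducibleComponents (hmax x)⟩) fun a b hab => ?_)
  have h1 : IsGenericPoint (⟨a.1, a.2.1⟩ : (W : Scheme.{u})) (closure {⟨b.1, b.2.1⟩}) := congrArg Subtype.val hab
  exact Subtype.ext (congrArg W.ι (h1.eq isGenericPoint_closure))

theorem residueFieldMap_essFiniteType {X S : Scheme.{u}} (f : X ⟶ S) [LocallyOfFiniteType f] (x : X) :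
    (f.residueFieldMap x).hom.EssFiniteType := by
  have h1 : ((X.residue x).hom.comp (f.stalkMap x).hom).EssFiniteType :=
    RingHom.EssFiniteType.comp (LocallyOfFiniteType.stalkMap f x)
      (RingHom.FiniteType.of_surjective _ (Ideal.Quotient.mk_surjective)).essFiniteType
  rw [← CommRingCat.hom_comp, ← Scheme.residue_residueFieldMap, CommRingCat.hom_comp] at h1
  exact h1.of_comp

end Groth.Agent.NagataNorm
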